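import Groth.Agent.Lib.Disc25.EtaleDiscr
import Mathlib.RingTheory.Etale.QuasiFinite
import Mathlib.RingTheory.Etale.Kaehler
import Mathlib.RingTheory.Unramified.Locus
import Mathlib.RingTheory.Ideal.KrullsHeightTheorem
import Mathlib.RingTheory.Flat.Rank
import Mathlib.RingTheory.Smooth.Flat
import Mathlib.RingTheory.Kaehler.TensorProduct

/-!
Purity of the branch locus for flat quasi-finite maps, through an etale neighbourhood which makes
the algebra finite free and the discriminant.
-/

universe u

open TensorProduct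

attribute [local instance] Algebra.TensorProduct.rightAlgebra

namespace Groth.Agent.FlatPur25

/-- A non-unit of a local ring of positive dimension lies in a prime of height one. -/
theorem exists_height_one {A : Type u} [CommRing A] [IsNoetherianRing A] (d : A) (P : Ideal A) [P.IsPrime]
    (hd : d ∈ P) (h1 : 1 ≤ P.height) : ∃ q : Ideal A, q.IsPrime ∧ q ≤ P ∧ d ∈ q ∧ q.height = 1 := by
  induction hh : P.height using WellFoundedLT.induction generalizing P with
  | _ n ih =>
    by_cases he : P.height = 1
    · exact ⟨P, ‹_›, le_rfl, hd, he⟩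
    obtain ⟨l, hlast, hlen⟩ := P.exists_ltSeries_length_eq_height
    have h2 : 2 ≤ l.length := by
      rw [← hlen] at h1 he
      have h1' : 1 ≤ l.length := by exact_mod_cast h1
      have he' : l.length ≠ 1 := fun h => he (by rw [h, Nat.cast_one])
      omega
    let p1 := l ⟨0, by omega⟩
    let p2 := l ⟨1, by omega⟩
    have h12 : p1 < p2 := l.strictMono (Fin.mk_lt_mk.mpr (by omega))
    have h2P : p2.asIdeal < P := by
      have h : p2 < l.last := l.strictMono (Fin.mk_lt_mk.mpr (by omega))
      rw [hlast] at h
      exact h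
    have hlt : p1.asIdeal < p2.asIdeal := h12
    suffices ∃ P' : Ideal A, P'.IsPrime ∧ d ∈ P' ∧ p1.asIdeal < P' ∧ P' < P by
      obtain ⟨P', hP', hdP', h1P', hP'P⟩ := this
      have hpos : 1 ≤ P'.height := by
        rw [Order.one_le_iff_pos]
        exact lt_of_le_of_lt bot_le (Ideal.height_strict_mono_of_isPrime h1P')
      obtain ⟨q, hq, hqle, hdq, hq1⟩ :=
        ih _ (hh ▸ Ideal.height_strict_mono_of_isPrime hP'P) P' hdP' hpos rfl
      exact ⟨q, hq, hqle.trans hP'P.le, hdq, hq1⟩
    by_cases hd2 : d ∈ p2.asIdeal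
    · exact ⟨p2.asIdeal, inferInstance, hd2, hlt, h2P⟩
    have hle : Ideal.span (insert d (p1.asIdeal : Set A)) ≤ P :=
      Ideal.span_le.mpr (Set.insert_subset_iff.mpr ⟨hd, fun a ha => h2P.le (hlt.le ha)⟩)
    obtain ⟨P', hP', hP'P⟩ := Ideal.exists_minimalPrimes_le hle
    haveI : P'.IsPrime := hP'.1.1
    have hins : insert d (p1.asIdeal : Set A) ⊆ P' := fun a ha => hP'.1.2 (Ideal.subset_span ha)
    refine ⟨P', ‹_›, hins (Set.mem_insert _ _), lt_of_le_of_ne (fun a ha => hins (Set.mem_insert_of_mem _ ha))
      fun h => hd2 (hlt.le (h ▸ hins (Set.mem_insert _ _))), lt_of_le_of_ne hP'P fun h => ?_⟩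
    subst h
    have hmin := Ideal.mem_minimalPrimes_span_of_mem_minimalPrimes_span_insert h2P d (p1.asIdeal : Set A) hP'
      (p1.asIdeal : Set A) hlt.le
      (fun a ha => Ideal.le_radical (Ideal.subset_span (Set.mem_insert_of_mem _ ha)))
    rw [Ideal.span_eq] at hmin
    exact hlt.not_ge (hmin.2 ⟨inferInstance, le_rfl⟩ hlt.le)

/-- Heights are preserved by flat maps at quasi-finite primes. -/
theorem height_eq_of_quasiFiniteAt {R S : Type u} [CommRing R] [IsNoetherianRing R] [CommRing S] [IsNoetherianRing S] [Algebra R S]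
    [Algebra.HasGoingDown R S] (P : Ideal S) [P.IsPrime] [Algebra.QuasiFiniteAt R P] :
    P.height = (P.under R).height := by
  have hle : (P.under R).map (algebraMap R S) ≤ P := Ideal.map_comap_le
  let π := Ideal.Quotient.mk ((P.under R).map (algebraMap R S))
  haveI : (P.map π).IsPrime :=
    Ideal.map_isPrime_of_surjective Ideal.Quotient.mk_surjective (by rwa [Ideal.mk_ker])
  have hcomap : (P.map π).comap π = P := by
    rw [Ideal.comap_map_of_surjective π Ideal.Quotient.mk_surjective, ← RingHom.ker_eq_comap_bot,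
      Ideal.mk_ker, sup_eq_left.mpr hle]
  have h0 : (P.map π).height = 0 := by
    rw [Ideal.height_eq_zero_iff]
    refine ⟨⟨inferInstance, bot_le⟩, fun q hq hqP => ?_⟩
    haveI := hq.1
    have h1 : q.comap π ≤ P := (Ideal.comap_mono hqP).trans_eq hcomap
    have h2 : (q.comap π).under R = P.under R := le_antisymm (Ideal.comap_mono h1) fun r hr => by
      show π (algebraMap R S r) ∈ q
      rw [Ideal.Quotient.eq_zero_iff_mem.mpr (Ideal.mem_map_of_mem _ hr)]
      exact q.zero_mem
    rw [← Ideal.map_comap_of_surjective π Ideal.Quotient.mk_surjective q,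
      Algebra.QuasiFiniteAt.eq_of_le_of_under_eq h1 h2]
  rw [Ideal.height_eq_height_add_of_liesOver_of_hasGoingDown (P.under R) P, h0, add_zero]

/-- Supports of base changes of finite modules. -/
theorem mem_support_baseChange_iff {B C M : Type u} [CommRing B] [CommRing C] [Algebra B C] [AddCommGroup M]
    [Module B M] [Module.Finite B M] (Q : PrimeSpectrum C) :
    Q ∈ Module.support C (C ⊗[B] M) ↔ PrimeSpectrum.comap (algebraMap B C) Q ∈ Module.support B M := by
  rw [Module.mem_support_iff_nontrivial_residueField_tensorProduct,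
    Module.mem_support_iff_nontrivial_residueField_tensorProduct,
    (AlgebraTensorModule.cancelBaseChange B C C Q.asIdeal.ResidueField M).toEquiv.nontrivial_congr]
  let q := Q.asIdeal.comap (algebraMap B C)
  let g : q.ResidueField →ₐ[B] Q.asIdeal.ResidueField :=
    Ideal.ResidueField.mapₐ q Q.asIdeal (Algebra.ofId B C) rfl
  let := g.toRingHom.toAlgebra
  haveI : IsScalarTower B q.ResidueField Q.asIdeal.ResidueField :=
    IsScalarTower.of_algebraMap_eq fun a => (g.commutes a).symm
  rw [← (AlgebraTensorModule.cancelBaseChange B q.ResidueField q.ResidueField Q.asIdeal.ResidueField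
    M).toEquiv.nontrivial_congr]
  constructor
  · intro h
    by_contra h'
    haveI : Subsingleton (q.ResidueField ⊗[B] M) := not_nontrivial_iff_subsingleton.mp h'
    exact not_subsingleton (Q.asIdeal.ResidueField ⊗[q.ResidueField] (q.ResidueField ⊗[B] M)) inferInstance
  · intro h
    haveI : Nontrivial (q.ResidueField ⊗[B] M) := h
    infer_instance

/-- Base change to a ring in which the annihilators become units. -/
theorem subsingleton_tensor_of_units {R K M : Type u} [CommRing R] [CommRing K] [Algebra R K] [AddCommGroup M]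
    [Module R M] (h : ∀ m : M, ∃ s : R, IsUnit (algebraMap R K s) ∧ s • m = 0) : Subsingleton (K ⊗[R] M) := by
  refine subsingleton_of_forall_eq 0 fun z => ?_
  induction z using TensorProduct.induction_on with
  | zero => rfl
  | add a b ha hb => rw [ha, hb, add_zero]
  | tmul k m =>
    obtain ⟨s, hs, hsm⟩ := h m
    obtain ⟨w, hw⟩ := hs.exists_left_inv
    rw [show k = s • (k * w) by rw [Algebra.smul_def, mul_left_comm, mul_comm (algebraMap R K s), hw, mul_one],
      TensorProduct.smul_tmul, hsm, TensorProduct.tmul_zero]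

/-- A flat quasi-finite map unramified at the height one primes below a prime is unramified there. -/
theorem isUnramifiedAt_of_height_one {A B : Type u} [CommRing A] [IsNoetherianRing A] [CommRing B] [Algebra A B]
    [Algebra.FiniteType A B] [Module.Flat A B] (q : Ideal B) [q.IsPrime] [Algebra.QuasiFiniteAt A q]
    (hpos : 1 ≤ q.height)
    (h : ∀ (q' : Ideal B) [q'.IsPrime], q' ≤ q → q'.height = 1 → Algebra.IsUnramifiedAt A q') :
    Algebra.IsUnramifiedAt A q := by
  classical
  let p := q.under A
  obtain ⟨R', _, _, _, P, _, _, e, he, P', _, _, hP'q, heP', -, hfin, huniq⟩ :=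
    Algebra.exists_etale_isIdempotentElem_forall_liesOver_eq p q
  let C := R' ⊗[A] B
  let T := Localization.Away e
  haveI : Module.Finite R' T := hfin
  haveI : IsNoetherianRing R' := Algebra.FiniteType.isNoetherianRing A R'
  haveI : IsNoetherianRing B := Algebra.FiniteType.isNoetherianRing A B
  haveI : IsNoetherianRing C := Algebra.FiniteType.isNoetherianRing R' C
  haveI : IsNoetherianRing T := IsLocalization.isNoetherianRing (Submonoid.powers e) T inferInstance
  haveI : Algebra.IsPushout A R' B C := inferInstance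
  haveI : Algebra.IsPushout A B R' C := .symm inferInstance
  haveI : Algebra.Etale B C := Algebra.Etale.of_equiv (Algebra.IsPushout.equiv A B R' C)
  haveI : Algebra.Etale C T := Algebra.Etale.of_isLocalizationAway e
  haveI : Algebra.Etale B T := Algebra.Etale.comp B C T
  haveI : Module.Flat R' T := Module.Flat.trans R' C T
  haveI : Algebra.QuasiFinite B T := inferInstance
  -- supports of differentials
  let Ω := Ω[T⁄R']
  haveI : Module.Finite R' Ω := Module.Finite.trans T _
  have hsupp : ∀ (Q : PrimeSpectrum T), Q ∈ Module.support T Ω ↔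
      ¬ Algebra.IsUnramifiedAt A (Q.asIdeal.under B) := fun Q => by
    rw [← (KaehlerDifferential.tensorKaehlerEquivOfFormallyEtale R' C T).support_eq,
      mem_support_baseChange_iff,
      ← (KaehlerDifferential.tensorKaehlerEquiv A R' B C).support_eq,
      mem_support_baseChange_iff, ← not_iff_not, not_not]
    have hc : PrimeSpectrum.comap (algebraMap B C) (PrimeSpectrum.comap (algebraMap C T) Q) =
        ⟨Q.asIdeal.under B, inferInstance⟩ :=
      PrimeSpectrum.ext (Ideal.under_under (A := B) (B := C) Q.asIdeal)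
    rw [hc]
    exact (Set.ext_iff.mp (Algebra.unramifiedLocus_eq_compl_support (R := A) (A := B))
      ⟨Q.asIdeal.under B, inferInstance⟩).symm
  -- the prime of `T` over `q`
  have hdisj : Disjoint (Submonoid.powers e : Set C) (P' : Set C) := by
    rwa [Ideal.disjoint_powers_iff_notMem_of_isPrime]
  let PT : Ideal T := P'.map (algebraMap C T)
  haveI : PT.IsPrime := IsLocalization.isPrime_of_isPrime_disjoint (Submonoid.powers e) T P' ‹_› hdisj
  have hPTC : PT.under C = P' := IsLocalization.under_map_of_isPrime_disjoint (Submonoid.powers e) T ‹_› hdisj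
  have hPTB : PT.under B = q := by
    rw [← Ideal.under_under (B := C) PT, hPTC]; exact hP'q
  have hPTR : PT.under R' = P := by
    rw [← Ideal.under_under (B := C) PT, hPTC]; exact (P'.over_def P).symm
  have hle : ∀ (Q : Ideal T) [Q.IsPrime], Q.under R' ≤ P → Q ≤ PT := fun Q _ hQ => by
    obtain ⟨Q2, hQQ2, hQ2, hQ2P⟩ := Ideal.exists_ideal_over_prime_of_isIntegral P Q hQ
    haveI := hQ2
    haveI : (Q2.under C).LiesOver P := ⟨by
      rw [Ideal.under_under]; exact hQ2P.symm⟩
    have heQ : e ∉ Q2.under C := fun h =>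
      hQ2.ne_top (Ideal.eq_top_of_isUnit_mem _ h (IsLocalization.Away.algebraMap_isUnit e))
    have := huniq (Q2.under C) inferInstance inferInstance heQ
    refine hQQ2.trans (le_of_eq ?_)
    rw [← IsLocalization.map_under (Submonoid.powers e) T Q2, this]
  -- heights
  have hht : ∀ (Q : Ideal T) [Q.IsPrime], (Q.under B).height = (Q.under R').height := fun Q _ => by
    rw [← height_eq_of_quasiFiniteAt (R := B) Q, ← height_eq_of_quasiFiniteAt (R := R') Q]
  -- free over the local ring at `P`
  let A' := Localization.AtPrime P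
  haveI : IsNoetherianRing A' := IsLocalization.isNoetherianRing P.primeCompl A' inferInstance
  haveI : Module.Free A' (A' ⊗[R'] T) := Module.free_of_flat_of_isLocalRing
  let b := Module.Free.chooseBasis A' (A' ⊗[R'] T)
  by_contra hq
  have hPT : (⟨PT, inferInstance⟩ : PrimeSpectrum T) ∈ Module.support T Ω := by
    rw [hsupp]; show ¬ Algebra.IsUnramifiedAt A (PT.under B)
    convert hq using 3
  by_cases hd : IsUnit (Algebra.discr A' b)
  · haveI := (Disc25.etale_iff_isUnit_discr b).mpr hd
    haveI : Subsingleton (A' ⊗[R'] Ω) :=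
      (KaehlerDifferential.tensorKaehlerEquivBase R' A' T (A' ⊗[R'] T)).toEquiv.subsingleton
    haveI : Subsingleton (LocalizedModule P.primeCompl Ω) :=
      (LocalizedModule.equivTensorProduct P.primeCompl Ω).toEquiv.subsingleton
    have hP : (⟨P, inferInstance⟩ : PrimeSpectrum R') ∉ Module.support R' Ω :=
      Module.notMem_support_iff.mpr inferInstance
    rw [Module.notMem_support_iff'] at hP
    refine Module.notMem_support_iff'.mpr (fun m => ?_) hPT
    obtain ⟨s, hs, hsm⟩ := hP m
    exact ⟨algebraMap R' T s, fun h => hs (hPTR.le h), by rwa [algebraMap_smul]⟩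
  · have hdm : Algebra.discr A' b ∈ IsLocalRing.maximalIdeal A' := hd
    have hm : 1 ≤ (IsLocalRing.maximalIdeal A').height := by
      rw [← IsLocalization.height_under P.primeCompl, Localization.AtPrime.under_maximalIdeal, ← hPTR,
        ← hht, hPTB]
      exact hpos
    obtain ⟨𝔮, h𝔮, -, hd𝔮, h𝔮1⟩ := exists_height_one _ _ hdm hm
    let 𝔭 := 𝔮.under R'
    have h𝔭P : 𝔭 ≤ P := by
      refine (Ideal.comap_mono (IsLocalRing.le_maximalIdeal h𝔮.ne_top)).trans_eq ?_
      exact Localization.AtPrime.under_maximalIdeal
    have h𝔭1 : 𝔭.height = 1 := by rw [IsLocalization.height_under P.primeCompl 𝔮, h𝔮1]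
    have hns : (⟨𝔭, inferInstance⟩ : PrimeSpectrum R') ∉ Module.support R' Ω := by
      intro hmem
      rw [Module.support_eq_zeroLocus (M := Ω), PrimeSpectrum.mem_zeroLocus] at hmem
      obtain ⟨Q, hIQ, hQ, hQ𝔭⟩ := Ideal.exists_ideal_over_prime_of_isIntegral 𝔭 (Module.annihilator T Ω)
        fun r hr => hmem (Module.mem_annihilator.mpr fun m => by
          rw [← algebraMap_smul T r m]; exact Module.mem_annihilator.mp hr m)
      haveI := hQ
      have hQs : (⟨Q, hQ⟩ : PrimeSpectrum T) ∈ Module.support T Ω := by
        rw [Module.support_eq_zeroLocus]; exact hIQ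
      rw [hsupp] at hQs
      refine hQs (h (Q.under B) ?_ ?_)
      · exact (Ideal.comap_mono (hle Q (le_of_eq_of_le hQ𝔭 h𝔭P))).trans_eq hPTB
      · rw [hht]
        exact (congrArg Ideal.height hQ𝔭).trans h𝔭1
    let K := 𝔮.ResidueField
    haveI : Subsingleton (K ⊗[R'] Ω) := by
      refine subsingleton_tensor_of_units fun m => ?_
      obtain ⟨s, hs, hsm⟩ := Module.notMem_support_iff'.mp hns m
      refine ⟨s, IsUnit.mk0 _ fun h0 => hs ?_, hsm⟩
      rw [IsScalarTower.algebraMap_apply R' A' K, Ideal.algebraMap_residueField_eq_zero] at h0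
      exact h0
    haveI : Algebra.FormallyUnramified K (K ⊗[R'] T) :=
      ⟨(KaehlerDifferential.tensorKaehlerEquivBase R' K T (K ⊗[R'] T)).symm.toEquiv.subsingleton⟩
    haveI : Algebra.FinitePresentation K (K ⊗[R'] T) := Algebra.FinitePresentation.of_finiteType.mp inferInstance
    haveI : Algebra.Etale K (K ⊗[R'] T) := .of_formallyUnramified_of_flat
    haveI : Algebra.Etale K (K ⊗[A'] (A' ⊗[R'] T)) :=
      Algebra.Etale.of_equiv (Algebra.TensorProduct.cancelBaseChange R' A' K K T).symm
    have h1 := (Disc25.etale_iff_isUnit_discr (A := K) (B := K ⊗[A'] (A' ⊗[R'] T)) (b.baseChange K)).mp inferInstance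
    rw [Disc25.discr_baseChange] at h1
    exact h1.ne_zero (Ideal.algebraMap_residueField_eq_zero.mpr hd𝔮)

end Groth.Agent.FlatPur25
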